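import Groth.Agent.Pi1.K260.D1Plan
import Groth.Agent.Pi1.K868.BcPBC
import Groth.Agent.EtAcyc.K548.SpreadPrin

/-!
# Local solutions exist

`loc1 : K260.D1.Loc1`: spreading out of principal covers from strict localizations.

* `exists_stage`: an equivariant morphism from a base change to the limit comes from a stage;
* `nonempty_sol`: local solutions from covers and equivariant maps;
* `thD`: the equivariant map over the limit.
-/

set_option autoImplicit false
universe u v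

open CategoryTheory CategoryTheory.Limits AlgebraicGeometry IsLocalRing

namespace K15.D1Loc1

open Groth.Agent.Pi1A.LimIso Groth.Agent.Pi1A.FEtAffine
open Groth.Agent.Ega43.LimitDescend

/-! ### Actions on base changes -/

section Act

variable {T B T' T'' : Scheme.{u}} (f₀ : T ⟶ B) (α : T ⟶ T) (h : α ≫ f₀ = f₀) (p : T' ⟶ B)

/-- The endomorphism of a base change. -/
noncomputable def ac : pullback f₀ p ⟶ pullback f₀ p :=
  pullback.lift (pullback.fst f₀ p ≫ α) (pullback.snd f₀ p) (by rw [Category.assoc, h, pullback.condition])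

@[reassoc]
theorem ac_fst : ac f₀ α h p ≫ pullback.fst f₀ p = pullback.fst f₀ p ≫ α := pullback.lift_fst _ _ _

@[reassoc]
theorem ac_snd : ac f₀ α h p ≫ pullback.snd f₀ p = pullback.snd f₀ p := pullback.lift_snd _ _ _

theorem ac_bcMap (p' : T'' ⟶ B) (g : T'' ⟶ T') (w : g ≫ p = p') :
    ac f₀ α h p' ≫ bcMap f₀ p p' g w = bcMap f₀ p p' g w ≫ ac f₀ α h p := by
  apply pullback.hom_ext
  · rw [Category.assoc, Category.assoc, bcMap_fst, ac_fst, ac_fst, bcMap_fst_assoc]
  · rw [Category.assoc, Category.assoc, bcMap_snd, ac_snd, bcMap_snd, ac_snd_assoc]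

end Act

section Stage

variable {I : Type u} [SmallCategory I] [IsCofiltered I] {D : I ⥤ Scheme.{u}}
  {c : Cone D} (hc : IsLimit c) [∀ (i j : I) (f : i ⟶ j), IsAffineHom (D.map f)]
  [∀ i, CompactSpace (D.obj i)] [∀ i, QuasiSeparatedSpace (D.obj i)]

include hc in
/-- An equivariant morphism from a base change to the limit comes from a stage. -/
theorem exists_stage {G : Type v} [Finite G] (i : I) {T W P₀ : Scheme.{u}} (f₀ : T ⟶ D.obj i) [QuasiCompact f₀]
    [QuasiSeparated f₀] (s : T ⟶ W) (π₀ : P₀ ⟶ W) [LocallyOfFinitePresentation π₀] (α : G → (T ⟶ T))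
    (hα : ∀ g, α g ≫ f₀ = f₀) (hαs : ∀ g, α g ≫ s = s) (β : G → (P₀ ⟶ P₀)) (hβ : ∀ g, β g ≫ π₀ = π₀)
    (θ : pullback f₀ (c.π.app i) ⟶ P₀) (hθ : θ ≫ π₀ = pullback.fst f₀ (c.π.app i) ≫ s)
    (he : ∀ g, ac f₀ (α g) (hα g) (c.π.app i) ≫ θ = θ ≫ β g) :
    ∃ (k : I) (φ : k ⟶ i) (θ' : pullback f₀ (D.map φ) ⟶ P₀), θ' ≫ π₀ = pullback.fst f₀ (D.map φ) ≫ s ∧
      ∀ g, ac f₀ (α g) (hα g) (D.map φ) ≫ θ' = θ' ≫ β g := by
  classical
  cases nonempty_fintype G
  let E : Over i ⥤ Scheme.{u} := Over.forget i ⋙ D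
  let t : ∀ k : Over i, E.obj k ⟶ D.obj i := fun k => D.map k.hom
  have ht : ∀ {j k : Over i} (φ : j ⟶ k), E.map φ ≫ t k = t j := fun φ => by
    change D.map φ.left ≫ D.map _ = D.map _
    rw [← D.map_comp, Over.w φ]
  have i₃ : ∀ {j k : Over i} (φ : j ⟶ k), IsAffineHom (E.map φ) := fun φ => inferInstanceAs (IsAffineHom (D.map φ.left))
  have i₄ : ∀ k : Over i, CompactSpace (E.obj k) := fun k => inferInstanceAs (CompactSpace (D.obj k.left))
  have i₅ : ∀ k : Over i, QuasiSeparatedSpace (E.obj k) := fun k => inferInstanceAs (QuasiSeparatedSpace (D.obj k.left))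
  let c' : Cone E := overCone c i
  have hc' : IsLimit c' := isLimitOverCone c hc i
  have hp : ∀ k : Over i, c'.π.app k ≫ t k = c.π.app i := fun k => c.w k.hom
  let F : Over i ⥤ Scheme.{u} := pbDiagram t ht f₀
  let d : Cone F := pbCone t ht f₀ c' (c.π.app i) hp _ _ (IsPullback.of_hasPullback f₀ (c.π.app i))
  have hd : IsLimit d := isLimitPbCone t ht f₀ c' (c.π.app i) hp _ _ (IsPullback.of_hasPullback f₀ (c.π.app i)) hc'
  have hd1 : ∀ k : Over i, d.π.app k = bcMap f₀ (t k) (c.π.app i) (c'.π.app k) (hp k) := fun k => rfl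
  have hF1 : ∀ {j k : Over i} (φ : j ⟶ k), F.map φ = bcMap f₀ (t k) (t j) (E.map φ) (ht φ) := fun φ => rfl
  have hτ : ∀ {j k : Over i} (φ : j ⟶ k), F.map φ ≫ (pullback.fst f₀ (t k) ≫ s) = pullback.fst f₀ (t j) ≫ s :=
    fun {j k} φ => bcMap_fst_assoc f₀ (t k) (t j) (E.map φ) (ht φ) s
  let τ : F ⟶ (Functor.const (Over i)).obj W := toConst (fun k => pullback.fst f₀ (t k) ≫ s) hτ
  obtain ⟨k, θk, h1, h2⟩ := Scheme.exists_π_app_comp_eq_of_locallyOfFinitePresentation F τ π₀ d hd θ (by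
    apply NatTrans.ext
    funext k
    exact (bcMap_fst_assoc f₀ (t k) (c.π.app i) (c'.π.app k) (hp k) s).trans hθ.symm)
  obtain ⟨θ1, hθ1⟩ : ∃ θ1 : pullback f₀ (t k) ⟶ P₀, θk = θ1 := ⟨θk, rfl⟩
  have h1' : bcMap f₀ (t k) (c.π.app i) (c'.π.app k) (hp k) ≫ θ1 = θ := by rw [← hθ1]; exact h1
  have h2' : θ1 ≫ π₀ = pullback.fst f₀ (t k) ≫ s := by rw [← hθ1]; exact h2
  have h3 : ∀ g, ∃ (l : Over i) (a : l ⟶ k), F.map a ≫ (ac f₀ (α g) (hα g) (t k) ≫ θ1) = F.map a ≫ (θ1 ≫ β g) := by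
    intro g
    refine Scheme.exists_hom_comp_eq_comp_of_locallyOfFiniteType F τ π₀ d hd _ _ ?_ ?_ ?_
    · change pullback.fst f₀ (t k) ≫ s = (ac f₀ (α g) (hα g) (t k) ≫ θ1) ≫ π₀
      rw [Category.assoc, h2', ac_fst_assoc, hαs]
    · change pullback.fst f₀ (t k) ≫ s = (θ1 ≫ β g) ≫ π₀
      rw [Category.assoc, hβ, h2']
    · change bcMap f₀ (t k) (c.π.app i) (c'.π.app k) (hp k) ≫ (ac f₀ (α g) (hα g) (t k) ≫ θ1) =
        bcMap f₀ (t k) (c.π.app i) (c'.π.app k) (hp k) ≫ (θ1 ≫ β g)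
      rw [← Category.assoc, ← ac_bcMap, Category.assoc, h1', he, ← h1', Category.assoc]
  choose l a ha using h3
  obtain ⟨m, hm⟩ := IsCofiltered.inf_objs_exists (Finset.univ.image fun g => Over.mk (a g))
  let b : ∀ g, m ⟶ Over.mk (a g) := fun g =>
    Classical.choice (hm (Finset.mem_image_of_mem _ (Finset.mem_univ g)))
  have hb : ∀ g, (b g).left ≫ a g = m.hom := fun g => Over.w (b g)
  refine ⟨m.left.left, m.left.hom, bcMap f₀ (t k) (D.map m.left.hom) (E.map m.hom) (ht m.hom) ≫ θ1, ?_, fun g => ?_⟩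
  · rw [Category.assoc, h2', bcMap_fst_assoc]
  · have h5 : F.map m.hom ≫ (ac f₀ (α g) (hα g) (t k) ≫ θ1) = F.map m.hom ≫ (θ1 ≫ β g) := by
      rw [← hb g, F.map_comp, Category.assoc, Category.assoc, ha g]
    have h6 : bcMap f₀ (t k) (D.map m.left.hom) (E.map m.hom) (ht m.hom) ≫ (ac f₀ (α g) (hα g) (t k) ≫ θ1) =
      bcMap f₀ (t k) (D.map m.left.hom) (E.map m.hom) (ht m.hom) ≫ (θ1 ≫ β g) := h5
    rw [← Category.assoc, ac_bcMap, Category.assoc, h6, Category.assoc]

end Stage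

/-! ### The equivariant map over the limit -/

section Limit

variable {G : Type v} [Group G] {X Y W XD WD : Scheme.{u}} {a : Y ⟶ X} {w : W ⟶ X} (P : FEt.Cat Y)
  (P₀ : FEt.Cat W) {q : XD ⟶ Y} {x : XD ⟶ X} {i : WD ⟶ XD} {x' : WD ⟶ W}

/-- The part of the cover over `W`, over `Y`. -/
noncomputable abbrev f0 (a : Y ⟶ X) (w : W ⟶ X) : pullback (P.hom ≫ a) w ⟶ Y := pullback.fst (P.hom ≫ a) w ≫ P.hom

/-- The action on the part over `W`. -/
noncomputable def al (a : Y ⟶ X) (w : W ⟶ X) (r : P ⟶ P) : pullback (P.hom ≫ a) w ⟶ pullback (P.hom ≫ a) w :=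
  pullback.lift (pullback.fst (P.hom ≫ a) w ≫ r.left) (pullback.snd (P.hom ≫ a) w) (by
    rw [Category.assoc, ← Category.assoc r.left, hom_w, pullback.condition])

@[reassoc]
theorem al_fst (r : P ⟶ P) : al P a w r ≫ pullback.fst (P.hom ≫ a) w = pullback.fst (P.hom ≫ a) w ≫ r.left :=
  pullback.lift_fst _ _ _

@[reassoc]
theorem al_snd (r : P ⟶ P) : al P a w r ≫ pullback.snd (P.hom ≫ a) w = pullback.snd (P.hom ≫ a) w :=
  pullback.lift_snd _ _ _

theorem al_f0 (r : P ⟶ P) : al P a w r ≫ f0 P a w = f0 P a w := by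
  rw [f0, ← Category.assoc, al_fst, Category.assoc, hom_w]

/-- The equivariant map over the limit. -/
theorem exists_limit (hq : q ≫ a = x) (hWD : IsPullback i x' x w) (ρ : G →* Aut P) (ρ₀ : G →* Aut P₀)
    (PD : FEt.Cat XD) (ρD : G →* Aut PD) (e : (FEt.restrict q).obj P ≅ PD)
    (he : ∀ g, (FEt.restrict q).map (ρ g).hom ≫ e.hom = e.hom ≫ (ρD g).hom)
    (e' : (FEt.restrict i).obj PD ≅ (FEt.restrict x').obj P₀)
    (he' : ∀ g, (FEt.restrict i).map (ρD g).hom ≫ e'.hom = e'.hom ≫ (FEt.restrict x').map (ρ₀ g).hom) :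
    ∃ θ : pullback (f0 P a w) q ⟶ P₀.left,
      θ ≫ P₀.hom = pullback.fst (f0 P a w) q ≫ pullback.snd (P.hom ≫ a) w ∧
      ∀ g, ac (f0 P a w) (al P a w (ρ g).hom) (al_f0 P _) q ≫ θ = θ ≫ (ρ₀ g).hom.left := by
  have w1 : (pullback.fst (f0 P a w) q ≫ pullback.fst (P.hom ≫ a) w) ≫ P.hom = pullback.snd (f0 P a w) q ≫ q := by
    rw [Category.assoc]; exact pullback.condition
  let u : pullback (f0 P a w) q ⟶ ((FEt.restrict q).obj P).left := (isPullback q P).lift _ _ w1
  have hu1 : u ≫ proj q P = pullback.fst (f0 P a w) q ≫ pullback.fst (P.hom ≫ a) w := (isPullback q P).lift_fst _ _ _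
  have hu2 : u ≫ ((FEt.restrict q).obj P).hom = pullback.snd (f0 P a w) q := (isPullback q P).lift_snd _ _ _
  have w2 : pullback.snd (f0 P a w) q ≫ x = (pullback.fst (f0 P a w) q ≫ pullback.snd (P.hom ≫ a) w) ≫ w := by
    rw [← hq, ← Category.assoc, ← w1, Category.assoc, Category.assoc, Category.assoc, pullback.condition]
  let v : pullback (f0 P a w) q ⟶ WD := hWD.lift _ _ w2
  have hv1 : v ≫ i = pullback.snd (f0 P a w) q := hWD.lift_fst _ _ _
  have hv2 : v ≫ x' = pullback.fst (f0 P a w) q ≫ pullback.snd (P.hom ≫ a) w := hWD.lift_snd _ _ _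
  have w3 : (u ≫ e.hom.left) ≫ PD.hom = v ≫ i := by
    rw [Category.assoc, hom_w, hu2, hv1]
  let z : pullback (f0 P a w) q ⟶ ((FEt.restrict i).obj PD).left := (isPullback i PD).lift _ _ w3
  have hz1 : z ≫ proj i PD = u ≫ e.hom.left := (isPullback i PD).lift_fst _ _ _
  have hz2 : z ≫ ((FEt.restrict i).obj PD).hom = v := (isPullback i PD).lift_snd _ _ _
  refine ⟨z ≫ e'.hom.left ≫ proj x' P₀, ?_, fun g => ?_⟩
  · rw [Category.assoc, Category.assoc, (isPullback x' P₀).w, ← Category.assoc e'.hom.left, hom_w, ← Category.assoc,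
      hz2, hv2]
  · have hau : ac (f0 P a w) (al P a w (ρ g).hom) (al_f0 P _) q ≫ u = u ≫ ((FEt.restrict q).map (ρ g).hom).left := by
      apply (isPullback q P).hom_ext
      · rw [Category.assoc, Category.assoc, hu1, map_left_proj, reassoc_of% hu1, ac_fst_assoc, al_fst]
      · rw [Category.assoc, Category.assoc, hom_w, hu2, ac_snd]
    have hav : ac (f0 P a w) (al P a w (ρ g).hom) (al_f0 P _) q ≫ v = v := by
      apply hWD.hom_ext
      · rw [Category.assoc, hv1, ac_snd]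
      · rw [Category.assoc, hv2, ac_fst_assoc, al_snd]
    have h1 : ((FEt.restrict q).map (ρ g).hom).left ≫ e.hom.left = e.hom.left ≫ (ρD g).hom.left := by
      rw [← MorphismProperty.Comma.comp_left, he, MorphismProperty.Comma.comp_left]
    have h2 : ((FEt.restrict i).map (ρD g).hom).left ≫ e'.hom.left =
        e'.hom.left ≫ ((FEt.restrict x').map (ρ₀ g).hom).left := by
      rw [← MorphismProperty.Comma.comp_left, he', MorphismProperty.Comma.comp_left]
    have haz : ac (f0 P a w) (al P a w (ρ g).hom) (al_f0 P _) q ≫ z = z ≫ ((FEt.restrict i).map (ρD g).hom).left := by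
      apply (isPullback i PD).hom_ext
      · rw [Category.assoc, Category.assoc, hz1, map_left_proj, reassoc_of% hz1, ← Category.assoc, hau,
          Category.assoc, h1]
      · rw [Category.assoc, Category.assoc, hom_w, hz2, hav]
    rw [← Category.assoc, haz, Category.assoc, Category.assoc, Category.assoc, reassoc_of% h2, map_left_proj]

end Limit

/-! ### Local solutions -/

section Sol

variable {G : Type} [Group G] {X Z W : Scheme.{u}} {j : X ⟶ Z} {w : W ⟶ X} {P₀ : FEt.Cat W} {ρ₀ : G →* Aut P₀}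

/-- Base change of a principal cover. -/
theorem isPrincipal_restrict {Y Y' : Scheme.{u}} (κ : Y' ⟶ Y) (P : FEt.Cat Y) (ρ : G →* Aut P)
    (h : SGA1t.IsPrincipal G P ρ) :
    SGA1t.IsPrincipal G ((FEt.restrict κ).obj P) (((FEt.restrict κ).mapAut P).comp ρ) := by
  rw [K548.PrinLocus.isPrincipal_iff] at h ⊢
  intro Ω _ _ ξ
  rw [← K548.PrinLocus.st_iff_of_iso G P ρ κ _ _ (Iso.refl _) (fun g => by
    rw [Iso.refl_hom, Category.comp_id, Category.id_comp]
    rfl)]
  exact h Ω _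

theorem nonempty_sol {B Y : Scheme.{u}} (b : B ⟶ Z) (P : FEt.Cat Y) (ρ : G →* Aut P) (hP : SGA1t.IsPrincipal G P ρ)
    (a : Y ⟶ X) (κ : pullback j b ⟶ Y) (hκ : κ ≫ a = pullback.fst j b) (θ : pullback (f0 P a w) κ ⟶ P₀.left)
    (hθ : θ ≫ P₀.hom = pullback.fst (f0 P a w) κ ≫ pullback.snd (P.hom ≫ a) w)
    (he : ∀ g, ac (f0 P a w) (al P a w (ρ g).hom) (al_f0 P _) κ ≫ θ = θ ≫ (ρ₀ g).hom.left) :
    Nonempty (K260.D1.Sol j w P₀ ρ₀ b) := by
  let P' : FEt.Cat (pullback j b) := (FEt.restrict κ).obj P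
  have w1 : (pullback.fst (P'.hom ≫ pullback.fst j b) w ≫ proj κ P) ≫ P.hom ≫ a =
      pullback.snd (P'.hom ≫ pullback.fst j b) w ≫ w := by
    rw [Category.assoc, ← Category.assoc (proj κ P), (isPullback κ P).w, Category.assoc, hκ, ← pullback.condition]
  let m₁ : pullback (P'.hom ≫ pullback.fst j b) w ⟶ pullback (P.hom ≫ a) w := pullback.lift _ _ w1
  have hm1 : m₁ ≫ pullback.fst (P.hom ≫ a) w = pullback.fst (P'.hom ≫ pullback.fst j b) w ≫ proj κ P :=
    pullback.lift_fst _ _ _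
  have hm2 : m₁ ≫ pullback.snd (P.hom ≫ a) w = pullback.snd (P'.hom ≫ pullback.fst j b) w :=
    pullback.lift_snd _ _ _
  have w2 : m₁ ≫ f0 P a w = (pullback.fst (P'.hom ≫ pullback.fst j b) w ≫ P'.hom) ≫ κ := by
    rw [f0, ← Category.assoc, hm1, Category.assoc, (isPullback κ P).w, Category.assoc]
  let m : pullback (P'.hom ≫ pullback.fst j b) w ⟶ pullback (f0 P a w) κ := pullback.lift _ _ w2
  have hm3 : m ≫ pullback.fst (f0 P a w) κ = m₁ := pullback.lift_fst _ _ _
  have hm4 : m ≫ pullback.snd (f0 P a w) κ = pullback.fst (P'.hom ≫ pullback.fst j b) w ≫ P'.hom :=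
    pullback.lift_snd _ _ _
  refine ⟨⟨P', ((FEt.restrict κ).mapAut P).comp ρ, isPrincipal_restrict κ P ρ hP, m ≫ θ, ?_, ?_⟩⟩
  · rw [Category.assoc, hθ, ← Category.assoc, hm3, hm2]
  · intro c K _ _ x y h h'
    have hc : ((((FEt.restrict κ).mapAut P).comp ρ) c).hom = (FEt.restrict κ).map (ρ c).hom := rfl
    have key : pullback.lift (x ≫ ((((FEt.restrict κ).mapAut P).comp ρ) c).hom.left) y h' ≫ m =
        (pullback.lift x y h ≫ m) ≫ ac (f0 P a w) (al P a w (ρ c).hom) (al_f0 P _) κ := by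
      apply pullback.hom_ext
      · rw [Category.assoc, hm3, Category.assoc, ac_fst, Category.assoc, reassoc_of% hm3]
        apply pullback.hom_ext
        · rw [Category.assoc, hm1, pullback.lift_fst_assoc, Category.assoc, Category.assoc, Category.assoc, al_fst,
            reassoc_of% hm1, pullback.lift_fst_assoc, hc, map_left_proj]
        · rw [Category.assoc, hm2, pullback.lift_snd, Category.assoc, Category.assoc, al_snd, hm2, pullback.lift_snd]
      · rw [Category.assoc, hm4, Category.assoc, ac_snd, Category.assoc, hm4, pullback.lift_fst_assoc,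
          pullback.lift_fst_assoc, Category.assoc, hom_w]
    rw [← Category.assoc, key, Category.assoc, he, Category.assoc, Category.assoc]

end Sol

/-! ### The node -/

open EtDesc Groth.Agent.Sga4A.EtStalk Groth.Agent.Etbc.H230.ConstSets Groth.Agent.Etrest.StrictLoc
  Groth.Agent.EtpbcB.StrictLoc Groth.Agent.EtpbcB Groth.Agent.EtpbcB.OshHens

/-- **Node LOC1**: local solutions exist. -/
theorem loc1 : K260.D1.Loc1.{u} := by
  intro R _ _ X Z W p j w hj hjq hw G _ _ hL P₀ ρ₀ hP₀ z hz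
  obtain ⟨Ω, _, _, ρ, rfl⟩ := exists_geomPoint _ z
  have hσ : p (toBase ρ (closedPoint (Osh ρ))) = closedPoint R := by
    rw [← hz, ← pt_default ρ]
    congr 1
    rw [← Scheme.Hom.comp_apply, pt_toBase]
  -- the cover over the strict localization
  let XD := pullback j (toBase ρ)
  let x : XD ⟶ X := pullback.fst j (toBase ρ)
  have sq : IsPullback x (pullback.snd j (toBase ρ)) j (toBase ρ) := IsPullback.of_hasPullback _ _
  let WD := pullback x w
  have sqW : IsPullback (pullback.fst x w) (pullback.snd x w) x w := IsPullback.of_hasPullback _ _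
  obtain ⟨PD, ρD, hPD, e', he'⟩ := @K260.D1.Loc.es _ _ _ _ _ _ p j w G _ hL (Osh ρ) _ inferInstance (toBase ρ)
    (isStrictLoc_toBase ρ) hσ _ _ x _ sq (pullback.fst x w) (pullback.snd x w) sqW
    ((FEt.restrict (pullback.snd x w)).obj P₀) (((FEt.restrict (pullback.snd x w)).mapAut P₀).comp ρ₀)
    (isPrincipal_restrict _ P₀ ρ₀ hP₀)
  -- it comes from a stage
  obtain ⟨l, P, ρP, e, hP, he⟩ := K548.SpreadPrin.exists_principal (isLimitConeX ρ j sq) G PD ρD hPD
  have iP₁ : IsFinite P.hom := P.prop.1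
  have iP₂ : IsFinite P₀.hom := P₀.prop.1
  have iP₃ : Etale P₀.hom := P₀.prop.2
  let a : (DX ρ j).obj l ⟶ X := ((EtCoh.bc j).obj ((D ρ).obj l)).hom
  have hq : (coneX ρ j sq).π.app l ≫ a = x := legX_hom ρ j sq l
  obtain ⟨θ, hθ1, hθ2⟩ := exists_limit P P₀ hq sqW ρP ρ₀ PD ρD e he e' he'
  -- so does the equivariant map
  obtain ⟨k, φ, θ', hθ3, hθ4⟩ := exists_stage (isLimitConeX ρ j sq) l (f0 P a w)
    (pullback.snd (P.hom ≫ a) w) P₀.hom (fun g : G => al P a w (ρP g).hom) (fun g => al_f0 P _)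
    (fun g => al_snd P _) (fun g => (ρ₀ g).hom.left) (fun g => hom_w _) θ hθ1 hθ2
  let b : ((D ρ).obj k).left ⟶ Z := ((D ρ).obj k).hom
  let ι : pullback j b ⟶ (DX ρ j).obj k :=
    (BCCalc.isPullback_pr j ((D ρ).obj k)).lift (pullback.snd j b) (pullback.fst j b) pullback.condition.symm
  have hι : ι ≫ ((EtCoh.bc j).obj ((D ρ).obj k)).hom = pullback.fst j b :=
    (BCCalc.isPullback_pr j ((D ρ).obj k)).lift_snd _ _ _
  have hφ : (DX ρ j).map φ ≫ a = ((EtCoh.bc j).obj ((D ρ).obj k)).hom :=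
    BCCalc.left_hom ((EtCoh.bc j).map ((D ρ).map φ))
  refine ⟨((D ρ).obj k).left, b, inferInstance, inferInstance, lft ρ k default, ?_, ?_⟩
  · rw [← Scheme.Hom.comp_apply, lft_hom]
  · refine nonempty_sol b P ρP hP a (ι ≫ (DX ρ j).map φ) (by rw [Category.assoc, hφ, hι])
      (bcMap (f0 P a w) ((DX ρ j).map φ) _ ι rfl ≫ θ') ?_ fun g => ?_
    · rw [Category.assoc, hθ3, bcMap_fst_assoc]
    · rw [← Category.assoc, ac_bcMap, Category.assoc, hθ4, Category.assoc]

end K15.D1Loc1
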